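import Mathlib
import Groth.Prelude.Def_DCoh3
import Groth.Agent.Lib.Helper5.DerSchTor.Restrict
import Groth.Agent.Lib.Helper5.RelPC.FlatSingle
import Groth.Agent.Lib.Helper5.RelPC.FlatTerms
import Groth.Agent.Lib.Helper5.Perf.LocNull

/-!
# Flatness over the base and restriction along open immersions (helper5)
-/
set_option autoImplicit false
set_option linter.unusedSectionVars false
set_option linter.unusedVariables false
set_option linter.style.haveILetI false
universe u
open CategoryTheory CategoryTheory.Limits MonoidalCategory AlgebraicGeometry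
attribute [local instance] HasDerivedCategory.standard

namespace Groth.Agent.Lib.Helper5.RelPerfTen

open Groth.Agent.Lib.Helper5.StalkTot Groth.Agent.Lib.Helper5.StalkAdj
open Groth.Agent.Helper5.TorAmp Groth.Agent.Lib.Helper5.TensorAmp
open Groth.Agent.Lib.Helper5.KSixFlat Groth.Agent.Lib.Helper5.KFlatPull
open Groth.Agent.Lib.Helper5.DerSchTor Groth.Agent.Lib.Helper5.LocNull
open DTen

variable {X Y : Scheme.{u}}

/-- restriction along an open immersion as a pullback, for complexes -/
noncomputable def rcxIsoPullback {U : Scheme.{u}} (j : U ⟶ X) [IsOpenImmersion j]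
    (F : CochainComplex X.Modules ℤ) :
    (RCx j).obj F ≅
      ((Scheme.Modules.pullback j).mapHomologicalComplex (ComplexShape.up ℤ)).obj F :=
  HomologicalComplex.Hom.isoOfComponents
    (fun i => (Scheme.Modules.restrictFunctorIsoPullback j).app (F.X i))
    (fun i k _ =>
      ((Scheme.Modules.restrictFunctorIsoPullback j).hom.naturality (F.d i k)).symm)

/-- the complex of stalks of a restriction along an open immersion -/
noncomputable def stalkCxRCxIso {U : Scheme.{u}} (j : U ⟶ X) [IsOpenImmersion j] (x' : U)
    (F : CochainComplex X.Modules ℤ) :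
    stalkCx U x' ((RCx j).obj F) ≅
      (extCx (j.stalkMap x').hom).obj (stalkCx X (j.base x') F) :=
  ((stalkSh U x').mapHomologicalComplex (ComplexShape.up ℤ)).mapIso
      (rcxIsoPullback j F) ≪≫
    stalkCxPullbackIso j F x'

/-- tor amplitude of the restriction along an open immersion, relative to the composite -/
theorem hasTorAmplitudeAt_rcx (f : X ⟶ Y) {U : Scheme.{u}} (j : U ⟶ X) [IsOpenImmersion j]
    (x' : U) (F : CochainComplex X.Modules ℤ) (a b : ℤ)
    (hF : DerSch.HasTorAmplitudeAt f a b F (j.base x')) :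
    DerSch.HasTorAmplitudeAt (j ≫ f) a b ((RCx j).obj F) x' := by
  rw [hasTorAmplitudeAt_iff] at hF ⊢
  have hbij : Function.Bijective (j.stalkMap x').hom :=
    (ConcreteCategory.isIso_iff_bijective _).1 inferInstance
  haveI := isIso_unitCx_of_bijective (j.stalkMap x').hom hbij (stalkCx X (j.base x') F)
  have e1 : (resCx (j.stalkMap x').hom).obj
      (stalkCx U x' ((RCx j).obj F)) ≅ stalkCx X (j.base x') F :=
    (resCx (j.stalkMap x').hom).mapIso (stalkCxRCxIso j x' F) ≪≫
      (asIso ((unitCx (j.stalkMap x').hom).app (stalkCx X (j.base x') F))).symm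
  have e2 := resCompIso j f x' (stalkCx U x' ((RCx j).obj F)) ≪≫
    (resCx (f.stalkMap (j.base x')).hom).mapIso e1
  exact hasTorAmplitudeIn_of_iso (DerivedCategory.Q.mapIso e2).symm hF

/-- **flatness over the base restricts along open immersions** -/
theorem isFlatOver_restrict_imm (f : X ⟶ Y) {U : Scheme.{u}} (j : U ⟶ X) [IsOpenImmersion j]
    (G : X.Modules) (hG : FlatMod.IsFlatOver f G) :
    FlatMod.IsFlatOver (j ≫ f) ((Scheme.Modules.restrictFunctor j).obj G) := by
  have hfl : ∀ i : ℤ, FlatMod.IsFlatOver f
      (((HomologicalComplex.single X.Modules (ComplexShape.up ℤ) 0).obj G).X i) := by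
    intro i
    by_cases hi : i = 0
    · subst hi
      exact Groth.Agent.Lib.Helper5.FlatSingle.isFlatOver_of_iso f
        (HomologicalComplex.singleObjXSelf (ComplexShape.up ℤ) 0 G).symm hG
    · exact Groth.Agent.Lib.Helper5.FlatSingle.isFlatOver_of_isZero f
        (HomologicalComplex.isZero_single_obj_X (ComplexShape.up ℤ) 0 G i hi)
  have h1 : DerSch.HasTorAmplitude f 0 0
      ((HomologicalComplex.single X.Modules (ComplexShape.up ℤ) 0).obj G) :=
    Groth.Agent.Lib.Helper5.FlatTerms.hasTorAmplitude_of_flat_terms f _ 0 0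
      (fun i hi => HomologicalComplex.isZero_single_obj_X (ComplexShape.up ℤ) 0 G i (by omega)) hfl
  apply Groth.Agent.Lib.Helper5.FlatSingle.isFlatOver_of_hasTorAmplitude_single
  intro x'
  have h2 := hasTorAmplitudeAt_rcx f j x' _ 0 0 (h1 _)
  exact hasTorAmplitudeAt_of_iso (j ≫ f) x'
    (DerivedCategory.Q.mapIso ((HomologicalComplex.singleMapHomologicalComplex
      (Scheme.Modules.restrictFunctor j) (ComplexShape.up ℤ) 0).app G)) 0 0 h2

end Groth.Agent.Lib.Helper5.RelPerfTen
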