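import Mathlib
import Groth.Prelude.Def_DCoh3
import Groth.Agent.Lib.Helper5.DerSchTor.Restrict
import Groth.Agent.Lib.Helper5.RelPC.FlatSingle
import Groth.Agent.Lib.Helper5.RelPC.FlatTerms
import Groth.Agent.Lib.Helper5.Stalk.Exact
import Groth.Agent.Lib.Helper5.StalkTen.StalkTot
import Groth.Agent.Lib.Helper5.Perf.LocNull

/-!
# Flatness over the base: coproducts and restriction along open immersions (helper5)
-/
set_option autoImplicit false
set_option linter.unusedSectionVars false
set_option linter.unusedVariables false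
set_option linter.style.haveILetI false
universe u
open CategoryTheory CategoryTheory.Limits MonoidalCategory AlgebraicGeometry
attribute [local instance] HasDerivedCategory.standard

namespace Groth.Agent.Lib.Helper5.RelPerfTen

open Groth.Agent.Lib.Helper5.StalkTot Groth.Agent.Lib.Helper5.StalkAdj
open Groth.Agent.Helper5.TorAmp Groth.Agent.Lib.Helper5.TensorAmp
open Groth.Agent.Lib.Helper5.KSixFlat Groth.Agent.Lib.Helper5.KFlatPull
open Groth.Agent.Lib.Helper5.DerSchTor
open DTen

variable {X S : Scheme.{u}}

/-- **coproducts of modules flat over the base are flat over the base** -/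
theorem isFlatOver_sigma (g : X ⟶ S) {ι : Type} (F : ι → X.Modules)
    (hF : ∀ i, FlatMod.IsFlatOver g (F i)) : FlatMod.IsFlatOver g (∐ F) := by
  classical
  intro x
  haveI : PreservesColimitsOfSize.{0, 0} (DerSch.stalkFunctor X x) :=
    preservesColimits_of_natIso (stalkFunctorIso X x).symm
  let Φ := DerSch.stalkOver g x
  let e1 : Φ.obj (∐ F) ≅ ∐ (fun i => Φ.obj (F i)) := PreservesCoproduct.iso Φ F
  let e2 := ModuleCat.coprodIsoDirectSum (fun i => Φ.obj (F i))
  haveI : ∀ i, Module.Flat (S.presheaf.stalk (g.base x)) (Φ.obj (F i)) := fun i => hF i x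
  show Module.Flat (S.presheaf.stalk (g.base x)) (Φ.obj (∐ F))
  exact Module.Flat.of_linearEquiv (e1 ≪≫ e2).toLinearEquiv

end Groth.Agent.Lib.Helper5.RelPerfTen
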