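import Mathlib
import Groth.Prelude.Def_DCoh4
import Groth.Agent.Lib.Helper5.LTen.TensorTri
import Groth.Agent.Lib.Helper5.Perf.PCBiprod
import Groth.Agent.Lib.Helper5.Perf.DevGen
import Groth.Agent.Lib.Helper5.Perf.ConePerf
import Groth.Agent.Lib.Helper5.RHomQC.UnitTen
import Groth.Agent.Lib.Helper5.LTen.Flf
import Groth.Agent.Lib.Helper5.Perf.ClPushA

/-!
# `P ⊗^L M` is pseudo-coherent for `P` strictly perfect with free terms and `M` pseudo-coherent
(helper5)
-/
set_option autoImplicit false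
set_option linter.unusedSectionVars false
set_option linter.unusedVariables false
set_option linter.style.haveILetI false
universe u
open CategoryTheory CategoryTheory.Limits AlgebraicGeometry
open Pretriangulated ZeroObject
attribute [local instance] HasDerivedCategory.standard

namespace Groth.Agent.Lib.Helper5.RelPerfTen

open Groth.Agent.Lib.Helper5.LTenTri Groth.Agent.Lib.Helper5.PCTri
  Groth.Agent.Lib.Helper5.PCBiprod

variable {Y : Scheme.{u}}

/-- **the derived tensor product commutes with shifts** (objectwise) -/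
theorem nonempty_ltensor_shift (N : CochainComplex Y.Modules ℤ) [DCoh.HasLTensorCx N]
    (Z : DCoh.D Y) (n : ℤ) :
    Nonempty ((DCoh.LTensorCx N).obj (Z⟦n⟧) ≅ ((DCoh.LTensorCx N).obj Z)⟦n⟧) := by
  obtain ⟨N', k, hN', _, hk, _⟩ :=
    Groth.Agent.Lib.Helper5.KFlatSiteQ.exists_isKFlat_resolution (O := Y.sheaf) N
  have hk' : QuasiIso k := hk
  let Z₀ : CochainComplex Y.Modules ℤ := DerivedCategory.Q.objPreimage Z
  let e : DerivedCategory.Q.obj Z₀ ≅ Z := DerivedCategory.Q.objObjPreimageIso Z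
  let G := (DCoh.tensorCx (X := Y)).flip.obj N'
  obtain ⟨e1⟩ := nonempty_ltensor_iso N N' hN' k hk' (Z₀⟦n⟧)
  obtain ⟨e2⟩ := nonempty_ltensor_iso N N' hN' k hk' Z₀
  exact ⟨(DCoh.LTensorCx N).mapIso ((shiftFunctor (DCoh.D Y) n).mapIso e.symm ≪≫
      ((DerivedCategory.Q.commShiftIso n).app Z₀).symm) ≪≫ e1 ≪≫
    DerivedCategory.Q.mapIso ((G.commShiftIso n).app Z₀) ≪≫
    (DerivedCategory.Q.commShiftIso n).app (G.obj Z₀) ≪≫
    (shiftFunctor (DCoh.D Y) n).mapIso (e2.symm ≪≫ (DCoh.LTensorCx N).mapIso e)⟩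

section Dev

variable (PP : ObjectProperty (DCoh.D Y)) [PP.IsClosedUnderIsomorphisms]

/-- dévissage: a property closed under extensions holding for `O[-i]` and zero objects holds for
free modules of finite rank placed in degree `i` -/
theorem prop_single_freeMod
    (hext : ∀ T ∈ distTriang (DCoh.D Y), PP T.obj₁ → PP T.obj₃ → PP T.obj₂)
    (hzero : ∀ Z : DCoh.D Y, IsZero Z → PP Z) (i : ℤ)
    (hO : PP ((DerivedCategory.singleFunctor Y.Modules i).obj (Coh.structureModule Y))) (n : ℕ) :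
    PP ((DerivedCategory.singleFunctor Y.Modules i).obj (FlatMod.freeMod Y n)) := by
  induction n with
  | zero =>
    apply hzero
    apply Functor.map_isZero
    apply Groth.Agent.Lib.Helper5.LTenFlf.isZero_sigma
    intro j
    exact j.elim0
  | succ n ih =>
    let A := FlatMod.freeMod Y n
    let B := FlatMod.freeMod Y 1
    let b : BinaryBicone A B := BinaryBiproduct.bicone A B
    have hb : b.IsBilimit := BinaryBiproduct.isBilimit A B
    let S := DerivedCategory.singleFunctor Y.Modules i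
    haveI : PreservesBinaryBiproducts S := preservesBinaryBiproducts_of_preservesBiproducts S
    have hb' : (S.mapBinaryBicone b).IsBilimit := isBinaryBilimitOfPreserves S hb
    have hT := bicone_triangle_distinguished (S.mapBinaryBicone b) hb'
    have eB : B ≅ Coh.structureModule Y :=
      coproductUniqueIso (fun _ : Fin 1 => Coh.structureModule Y)
    have h3 : PP (S.obj B) := PP.prop_of_iso (S.mapIso eB.symm) hO
    have h2 := hext _ hT ih h3
    have e : A ⊞ B ≅ FlatMod.freeMod Y (n + 1) :=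
      biprod.isoCoprod A B ≪≫ Groth.Agent.Lib.Helper5.ConePerf.freeAddIso n 1
    exact PP.prop_of_iso (S.mapIso e) h2

end Dev

variable (N : CochainComplex Y.Modules ℤ) [DCoh.HasLTensorCx N]

/-- the property "`- ⊗^L N` is pseudo-coherent" -/
def PCTenProp : ObjectProperty (DCoh.D Y) :=
  fun Z => ∀ m : ℤ, DCoh.IsPseudoCoherentD m ((DCoh.LTensorCx N).obj Z)

instance : (PCTenProp N).IsClosedUnderIsomorphisms where
  of_iso e h := fun m => isPC_of_iso ((DCoh.LTensorCx N).mapIso e) (h m)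

theorem pcTenProp_ext (T : Triangle (DCoh.D Y)) (hT : T ∈ distTriang (DCoh.D Y))
    (h₁ : PCTenProp N T.obj₁) (h₃ : PCTenProp N T.obj₃) : PCTenProp N T.obj₂ := by
  intro m
  obtain ⟨a, b, c, hT'⟩ := exists_distinguished_ltensor N T hT
  exact (isPC_triangle m _ hT').2.1 (h₁ m) (h₃ m)

theorem isZero_ltensor_of_isZero (Z : DCoh.D Y) (hZ : IsZero Z) :
    IsZero ((DCoh.LTensorCx N).obj Z) := by
  obtain ⟨N', k, hN', _, hk, _⟩ :=
    Groth.Agent.Lib.Helper5.KFlatSiteQ.exists_isKFlat_resolution (O := Y.sheaf) N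
  have hk' : QuasiIso k := hk
  obtain ⟨e1⟩ := nonempty_ltensor_iso N N' hN' k hk' (0 : CochainComplex Y.Modules ℤ)
  have h0 : IsZero (DerivedCategory.Q.obj (0 : CochainComplex Y.Modules ℤ)) :=
    Functor.map_isZero _ (isZero_zero _)
  have h1 : IsZero (DerivedCategory.Q.obj
      (((DCoh.tensorCx (X := Y)).flip.obj N').obj (0 : CochainComplex Y.Modules ℤ))) :=
    Functor.map_isZero _ (Functor.map_isZero _ (isZero_zero _))
  exact IsZero.of_iso h1 ((DCoh.LTensorCx N).mapIso (hZ.iso h0) ≪≫ e1)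

theorem pcTenProp_zero (Z : DCoh.D Y) (hZ : IsZero Z) : PCTenProp N Z := fun m =>
  Groth.Agent.Lib.Helper5.ClPush.isPC_of_isZero (isZero_ltensor_of_isZero N Z hZ) m

/-- `O[-i] ⊗^L N` is pseudo-coherent if `N` is -/
theorem pcTenProp_single_O (hN : ∀ m : ℤ, DCoh.IsPseudoCoherentD m (DerivedCategory.Q.obj N))
    (i : ℤ) :
    PCTenProp N ((DerivedCategory.singleFunctor Y.Modules i).obj (Coh.structureModule Y)) := by
  intro m
  let O0 := (DerivedCategory.singleFunctor Y.Modules 0).obj (Coh.structureModule Y)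
  have e0 : ((DerivedCategory.singleFunctor Y.Modules 0).obj (Coh.structureModule Y))⟦(-i : ℤ)⟧ ≅
      (DerivedCategory.singleFunctor Y.Modules i).obj (Coh.structureModule Y) :=
    ((DerivedCategory.singleFunctors Y.Modules).shiftIso (-i) i 0 (by omega)).app _
  obtain ⟨e1⟩ := nonempty_ltensor_shift N O0 (-i)
  have e2 : (DCoh.LTensorCx N).obj O0 ≅ DerivedCategory.Q.obj N :=
    Groth.Agent.Lib.Helper5.RHomQC.ltensorUnitIso N
  have h1 : DCoh.IsPseudoCoherentD m ((DerivedCategory.Q.obj N)⟦(-i : ℤ)⟧) :=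
    isPC_shift (hN (-i + m)) (-i) m rfl
  exact isPC_of_iso ((shiftFunctor (DCoh.D Y) (-i)).mapIso e2.symm ≪≫ e1.symm ≪≫
    (DCoh.LTensorCx N).mapIso e0) h1

/-- **`P ⊗^L N` is pseudo-coherent** for `N` pseudo-coherent and `P` a bounded complex whose terms
are zero or free of finite rank -/
theorem pcTenProp_of_free_terms
    (hN : ∀ m : ℤ, DCoh.IsPseudoCoherentD m (DerivedCategory.Q.obj N))
    (P : CochainComplex Y.Modules ℤ) (a b : ℤ) (hP : DCoh.VanishesOutside P a b)
    (hfree : ∀ i : ℤ, IsZero (P.X i) ∨ ∃ n : ℕ, Nonempty (P.X i ≅ FlatMod.freeMod Y n)) :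
    PCTenProp N (DerivedCategory.Q.obj P) := by
  apply Groth.Agent.Lib.Helper5.DevGen.of_terms (PCTenProp N)
    (fun T hT h₁ h₃ => pcTenProp_ext N T hT h₁ h₃) P a b hP
  intro i
  rcases hfree i with h | ⟨n, ⟨e⟩⟩
  · exact pcTenProp_zero N _ (Functor.map_isZero _ h)
  · refine (PCTenProp N).prop_of_iso
      ((DerivedCategory.singleFunctor Y.Modules i).mapIso e.symm) ?_
    exact prop_single_freeMod (PCTenProp N) (fun T hT h₁ h₃ => pcTenProp_ext N T hT h₁ h₃)
      (pcTenProp_zero N) i (pcTenProp_single_O N hN i) n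

end Groth.Agent.Lib.Helper5.RelPerfTen
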