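import Mathlib
import Groth.Prelude.Def_DCoh3
import Groth.Agent.Lib.Helper5.RelPerfTen.Flat
import Groth.Agent.Lib.Helper5.RpushPerf.TenG1
import Groth.Agent.Lib.Helper5.LTen.SPTensor

/-!
# Terms of `P ⊗ E` for `P` strictly perfect and `E` bounded with terms flat over the base (helper5)
-/
set_option autoImplicit false
set_option linter.unusedSectionVars false
set_option linter.unusedVariables false
set_option linter.style.haveILetI false
universe u
open CategoryTheory CategoryTheory.Limits AlgebraicGeometry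
attribute [local instance] HasDerivedCategory.standard

namespace Groth.Agent.Lib.Helper5.RelPerfTen

variable {Y S : Scheme.{u}}

/-- the terms of `P ⊗ E` are flat over the base -/
theorem isFlatOver_tensorCx_X (g : Y ⟶ S) (P E : CochainComplex Y.Modules ℤ)
    (hP : ∀ i : ℤ, FlatMod.IsFinLocFree (P.X i)) (hE : ∀ i : ℤ, FlatMod.IsFlatOver g (E.X i))
    (n : ℤ) : FlatMod.IsFlatOver g (((DCoh.tensorCx.obj P).obj E).X n) := by
  let F : ((ComplexShape.π (ComplexShape.up ℤ) (ComplexShape.up ℤ)
      (ComplexShape.up ℤ)) ⁻¹' {n}) → Y.Modules :=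
    fun i => (DCoh.tensorBi.obj (P.X i.1.1)).obj (E.X i.1.2)
  change FlatMod.IsFlatOver g (∐ F)
  apply isFlatOver_sigma
  intro i
  exact Groth.Agent.Lib.Helper5.RpushPerf.isFlatOver_tensor_of_isFinLocFree g _ _ (hP _) (hE _)

/-- `P ⊗ E` vanishes outside `[a + a', b + b']` -/
theorem vanishesOutside_tensorCx (P E : CochainComplex Y.Modules ℤ) (a b a' b' : ℤ)
    (hab : DCoh.VanishesOutside P a b) (hab' : DCoh.VanishesOutside E a' b') :
    DCoh.VanishesOutside ((DCoh.tensorCx.obj P).obj E) (a + a') (b + b') := by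
  intro n hn
  let F : ((ComplexShape.π (ComplexShape.up ℤ) (ComplexShape.up ℤ)
      (ComplexShape.up ℤ)) ⁻¹' {n}) → Y.Modules :=
    fun i => (DCoh.tensorBi.obj (P.X i.1.1)).obj (E.X i.1.2)
  change IsZero (∐ F)
  apply Groth.Agent.Lib.Helper5.LTenFlf.isZero_sigma
  intro i
  have hi : i.1.1 + i.1.2 = n := i.2
  by_cases h1 : i.1.1 < a ∨ b < i.1.1
  · exact Groth.Agent.Lib.Helper5.SPTensor.isZero_tensor_left _ _ (hab _ h1)
  · apply Groth.Agent.Lib.Helper5.SPTensor.isZero_tensor_right
    apply hab'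
    omega

end Groth.Agent.Lib.Helper5.RelPerfTen
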