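import Mathlib
import Groth.Prelude.Def_DCoh3
import Groth.Agent.Lib.Helper5.RelPerfTen.Flat
import Groth.Agent.Lib.Helper5.RelPerfTen.FlatRes
import Groth.Agent.Lib.Helper5.RelPerfTen.PCTen
import Groth.Agent.Lib.Helper5.RelPerfTen.Terms
import Groth.Agent.Lib.Helper5.Perf.Shrink
import Groth.Agent.Lib.Helper5.Perf.PerfIff
import Groth.Agent.Lib.Helper5.RHomQC.ResTen
import Groth.Agent.Lib.Helper5.LTen.PerfTensor

/-!
# The derived tensor product of a perfect object with a relatively perfect object is relatively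
perfect (helper5)
-/
set_option autoImplicit false
set_option linter.unusedSectionVars false
set_option linter.unusedVariables false
set_option linter.style.haveILetI false
universe u
open CategoryTheory CategoryTheory.Limits AlgebraicGeometry
open Pretriangulated
attribute [local instance] HasDerivedCategory.standard

namespace Groth.Agent.Lib.Helper5.RelPerfTen

open Groth.Agent.Lib.Helper5.PerfTri Groth.Agent.Lib.Helper5.Shrink
  Groth.Agent.Lib.Helper5.LocNull Groth.Agent.Lib.Helper5.PCTri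
  Groth.Agent.Lib.Helper5.PCBiprod Groth.Agent.Lib.Helper5.LTenDer

variable {X S : Scheme.{u}}

/-- transport of restrictions along an equality of open immersions -/
noncomputable def restrictDCongrObjIso {U : Scheme.{u}} {j j' : U ⟶ X} [IsOpenImmersion j]
    [IsOpenImmersion j'] (h : j = j') (K : DCoh.D X) :
    (DCoh.restrictD j).obj K ≅ (DCoh.restrictD j').obj K := by
  subst h
  exact Iso.refl _

/-- a local representative of a perfect object restricts to smaller opens -/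
noncomputable def lpdRestrictIso {V W : X.Opens} (hW : W ≤ V) (K : DCoh.D X)
    (P₁ : CochainComplex (V : Scheme.{u}).Modules ℤ)
    (e : (DCoh.restrictD V.ι).obj K ≅ DerivedCategory.Q.obj P₁) :
    (DCoh.restrictD W.ι).obj K ≅ DerivedCategory.Q.obj ((resLECx hW).obj P₁) :=
  restrictDCongrObjIso (X.homOfLE_ι hW).symm K ≪≫
    restrictDCompObjIso (X.homOfLE hW) V.ι K ≪≫ (DCoh.restrictD (X.homOfLE hW)).mapIso e ≪≫
    (Scheme.Modules.restrictFunctor (X.homOfLE hW)).mapDerivedCategoryFactors.app P₁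

/-- locally a perfect object is represented by a bounded complex whose terms are zero or free -/
theorem exists_free_LPD {K : DCoh.D X} (hK : DCoh.IsPerfect K) (x : X) :
    ∃ (W : X.Opens) (P : CochainComplex (W : Scheme.{u}).Modules ℤ) (a b : ℤ), x ∈ W ∧
      DCoh.VanishesOutside P a b ∧
      (∀ i : ℤ, IsZero (P.X i) ∨ ∃ n : ℕ, Nonempty (P.X i ≅ FlatMod.freeMod (↑W) n)) ∧
      Nonempty ((DCoh.restrictD W.ι).obj K ≅ DerivedCategory.Q.obj P) := by
  obtain ⟨V₁, hx₁, P₁, ⟨⟨a, b, hab⟩, hfl⟩, ⟨e⟩⟩ := exists_LPD_of_isPerfect hK x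
  obtain ⟨W, hW, hxW, hfree⟩ :=
    exists_free_nhd_finset (Finset.Icc a b) (fun i => P₁.X i) hfl x hx₁
  refine ⟨W, (resLECx hW).obj P₁, a, b, hxW, fun i hi => ?_, fun i => ?_,
    ⟨lpdRestrictIso hW K P₁ e⟩⟩
  · exact Functor.map_isZero (Scheme.Modules.restrictFunctor (X.homOfLE hW)) (hab i hi)
  · by_cases hi : i ∈ Finset.Icc a b
    · exact Or.inr (hfree i hi)
    · left
      apply Functor.map_isZero (Scheme.Modules.restrictFunctor (X.homOfLE hW))
      apply hab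
      rw [Finset.mem_Icc] at hi
      omega

variable (f : X ⟶ S) (M : CochainComplex X.Modules ℤ) [DCoh.HasLTensorCx M]

/-- **pseudo-coherence of `K ⊗^L M`** for `K` perfect and `M` pseudo-coherent -/
theorem isPseudoCoherentD_ltensor_of_isPerfect (K : DCoh.D X) (hK : DCoh.IsPerfect K)
    (hMpc : ∀ m : ℤ, DCoh.IsPseudoCoherentD m (DCoh.toD X M)) (m : ℤ) :
    DCoh.IsPseudoCoherentD m ((DCoh.LTensorCx M).obj K) := by
  apply isPC_local
  intro x
  obtain ⟨W, P, a, b, hxW, hab, hfree, ⟨e⟩⟩ := exists_free_LPD hK x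
  refine ⟨W, hxW, ?_⟩
  haveI : DCoh.HasLTensorCx (Groth.Agent.Lib.Helper5.ShriekProj.KV W M) :=
    Groth.Agent.Lib.Helper5.LTenAll.hasLTensorCx _
  have e1 := (Groth.Agent.Lib.Helper5.RHomQC.resTenIso W M).app K
  have hN : ∀ m : ℤ, DCoh.IsPseudoCoherentD m
      (DerivedCategory.Q.obj (Groth.Agent.Lib.Helper5.ShriekProj.KV W M)) := fun m =>
    isPC_of_iso ((Scheme.Modules.restrictFunctor W.ι).mapDerivedCategoryFactors.app M)
      (Groth.Agent.Lib.Helper5.PerfIff.isPC_restrict (hMpc m) W)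
  have h2 := pcTenProp_of_free_terms (Groth.Agent.Lib.Helper5.ShriekProj.KV W M) hN P a b hab
    hfree m
  exact isPC_of_iso ((DCoh.LTensorCx (Groth.Agent.Lib.Helper5.ShriekProj.KV W M)).mapIso e.symm ≪≫
    e1.symm) h2

/-- **local finiteness of the relative tor dimension of `K ⊗^L M`** for `K` perfect -/
theorem locHasFiniteRelTorDim_ltensor_of_isPerfect (K : DCoh.D X) (hK : DCoh.IsPerfect K)
    (hMtor : DCoh.LocHasFiniteRelTorDim f (DCoh.toD X M)) :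
    DCoh.LocHasFiniteRelTorDim f ((DCoh.LTensorCx M).obj K) := by
  intro x
  obtain ⟨V₁, hx₁, P₁, hP₁, ⟨e⟩⟩ := exists_LPD_of_isPerfect hK x
  obtain ⟨V₂, a, b, hx₂, hV₂⟩ := hMtor x
  obtain ⟨E, hEab, hEfl, ⟨eE⟩⟩ := hV₂ M ⟨Iso.refl _⟩
  have hW₁ : V₁ ⊓ V₂ ≤ V₁ := inf_le_left
  have hW₂ : V₁ ⊓ V₂ ≤ V₂ := inf_le_right
  have hP : DCoh.IsStrictlyPerfect ((resLECx hW₁).obj P₁) :=
    isStrictlyPerfect_restrict (X.homOfLE hW₁) hP₁
  obtain ⟨⟨c, d, hcd⟩, hfl⟩ := hP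
  refine ⟨V₁ ⊓ V₂, c + a, d + b, ⟨hx₁, hx₂⟩, fun F' ⟨eF'⟩ => ?_⟩
  have eP : (DCoh.restrictD (V₁ ⊓ V₂).ι).obj K ≅
      DerivedCategory.Q.obj ((resLECx hW₁).obj P₁) := lpdRestrictIso hW₁ K P₁ e
  have eE' : DerivedCategory.Q.obj ((DCoh.restrictCx (V₁ ⊓ V₂)).obj M) ≅
      DerivedCategory.Q.obj ((resLECx hW₂).obj E) := restrictQIso hW₂ M E eE.symm
  have hPK : DCoh.IsKFlat ((resLECx hW₁).obj P₁) :=
    isKFlat_of_isStrictlyPerfect _ ⟨⟨c, d, hcd⟩, hfl⟩
  haveI : DCoh.HasLTensorCx (Groth.Agent.Lib.Helper5.ShriekProj.KV (V₁ ⊓ V₂) M) :=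
    Groth.Agent.Lib.Helper5.LTenAll.hasLTensorCx _
  have hmor : X.homOfLE hW₂ ≫ V₂.ι ≫ f = (V₁ ⊓ V₂).ι ≫ f := by
    rw [← Category.assoc, X.homOfLE_ι]
  have hE'fl : ∀ i : ℤ, FlatMod.IsFlatOver ((V₁ ⊓ V₂).ι ≫ f) (((resLECx hW₂).obj E).X i) := by
    intro i
    have h1 := isFlatOver_restrict_imm (V₂.ι ≫ f) (X.homOfLE hW₂) (E.X i) (hEfl i)
    rw [hmor] at h1
    exact h1
  have hE'ab : DCoh.VanishesOutside ((resLECx hW₂).obj E) a b := fun i hi =>
    Functor.map_isZero (Scheme.Modules.restrictFunctor (X.homOfLE hW₂)) (hEab i hi)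
  refine ⟨(DCoh.tensorCx.obj ((resLECx hW₁).obj P₁)).obj ((resLECx hW₂).obj E),
    vanishesOutside_tensorCx _ _ c d a b hcd hE'ab,
    fun i => isFlatOver_tensorCx_X ((V₁ ⊓ V₂).ι ≫ f) _ _ hfl hE'fl i, ⟨?_⟩⟩
  have i1 : DerivedCategory.Q.obj ((DCoh.restrictCx (V₁ ⊓ V₂)).obj F') ≅
      (DCoh.restrictD (V₁ ⊓ V₂).ι).obj ((DCoh.LTensorCx M).obj K) :=
    ((Scheme.Modules.restrictFunctor (V₁ ⊓ V₂).ι).mapDerivedCategoryFactors.app F').symm ≪≫
      (DCoh.restrictD (V₁ ⊓ V₂).ι).mapIso eF'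
  have i2 := (Groth.Agent.Lib.Helper5.RHomQC.resTenIso (V₁ ⊓ V₂) M).app K
  have i3 := (DCoh.LTensorCx (Groth.Agent.Lib.Helper5.ShriekProj.KV (V₁ ⊓ V₂) M)).mapIso eP
  have i4 := Groth.Agent.Lib.Helper5.LTenAll.ltensorObjIsoOfKFlat
    (E := Groth.Agent.Lib.Helper5.ShriekProj.KV (V₁ ⊓ V₂) M) ((resLECx hW₁).obj P₁) hPK
  have i5 := mapQIso ((DCoh.tensorCx (X := ((V₁ ⊓ V₂ : X.Opens) : Scheme.{u}))).obj
      ((resLECx hW₁).obj P₁))
    (fun φ hφ => quasiIso_tensor_obj _ hPK φ hφ) eE'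
  exact (i1 ≪≫ i2 ≪≫ i3 ≪≫ i4 ≪≫ i5).symm

/-- **S7249**: the derived tensor product of a perfect object with a relatively perfect object
is relatively perfect -/
theorem relPerfect_ltensor_of_isPerfect (K : DCoh.D X) (hK : DCoh.IsPerfect K)
    (hMpc : ∀ m : ℤ, DCoh.IsPseudoCoherentD m (DCoh.toD X M))
    (hMtor : DCoh.LocHasFiniteRelTorDim f (DCoh.toD X M)) :
    (∀ m : ℤ, DCoh.IsPseudoCoherentD m ((DCoh.LTensorCx M).obj K)) ∧
      DCoh.LocHasFiniteRelTorDim f ((DCoh.LTensorCx M).obj K) :=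
  ⟨fun m => isPseudoCoherentD_ltensor_of_isPerfect M K hK hMpc m,
    locHasFiniteRelTorDim_ltensor_of_isPerfect f M K hK hMtor⟩

end Groth.Agent.Lib.Helper5.RelPerfTen
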